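import Mathlib

/-!
A strong generating set for the Mathieu group on twelve points given by eight permutations of
`0, …, 11`, with transversals along the base `2, 1, 0, 3, 4` and Schreier certificates.
-/

set_option autoImplicit false

namespace CfsgLib.M12Explicit

/-- The points. -/
abbrev Pt : Type := Fin 12

/-- The eight generators as tables. -/
def tabs : List (List Pt) :=
  [[0, 1, 2, 4, 5, 3, 7, 8, 6, 10, 11, 9],
   [0, 1, 2, 6, 7, 8, 9, 10, 11, 3, 4, 5],
   [0, 1, 2, 3, 6, 9, 5, 8, 11, 4, 7, 10],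
   [0, 1, 2, 3, 7, 11, 10, 5, 6, 8, 9, 4],
   [0, 1, 2, 3, 10, 8, 11, 6, 4, 7, 5, 9],
   [3, 1, 2, 0, 4, 5, 7, 6, 10, 11, 8, 9],
   [1, 0, 2, 3, 4, 5, 9, 10, 11, 6, 7, 8],
   [0, 2, 1, 3, 4, 5, 11, 9, 10, 7, 8, 6]]

/-- Transversal and certificates at the point 2. -/
def lvl0 : List (Pt × List (Fin 8) × List (ℕ × List (Fin 8))) :=
  [(2, [],
    [(0, [0]), (0, [1]), (0, [2]), (0, [3]), (0, [4]), (0, [5]), (0, [6]), (1, [])]),
   (1, [7],
    [(1, [0]), (1, [4, 1, 2, 3]), (1, [4, 2]), (1, [3, 4]), (1, [2, 3]), (1, [5]), (2, []), (0, [])]),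
   (0, [6, 7],
    [(2, [0]), (2, [1, 0]), (2, [3]), (2, [2, 3]), (2, [3, 4]), (3, []), (1, []), (2, [6])]),
   (3, [5, 6, 7],
    [(4, []), (5, []), (3, [2, 3]), (3, [3]), (3, [2]), (2, []), (3, [5]), (3, [6])]),
   (4, [0, 5, 6, 7],
    [(6, []), (7, []), (5, [2, 3]), (7, [3]), (8, []), (4, [0, 0, 2, 2]), (4, [5]), (4, [6])]),
   (6, [1, 5, 6, 7],
    [(7, []), (9, []), (6, [2, 3]), (8, [4]), (10, []), (7, [4, 1, 3]), (9, [5]), (10, [6, 2])]),
   (5, [0, 0, 5, 6, 7],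
    [(3, []), (11, []), (9, [2, 3]), (10, [4]), (11, [2]), (6, [0, 2, 2]), (6, [5]), (6, [6])]),
   (7, [1, 0, 5, 6, 7],
    [(11, []), (8, [3, 4]), (11, [2, 3]), (6, [3]), (5, [2]), (5, [4, 0, 4, 2]), (8, [5, 4, 2]), (9, [6])]),
   (10, [4, 0, 5, 6, 7],
    [(10, []), (4, [2]), (7, [3]), (9, [4]), (6, [2, 2]), (11, [1, 2]), (7, [5, 2]), (11, [6, 2])]),
   (9, [1, 1, 5, 6, 7],
    [(8, [3, 4]), (3, []), (4, [2, 3]), (11, [3]), (7, [2]), (10, [4, 0, 2, 3]), (5, [5]), (7, [6])]),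
   (11, [4, 1, 5, 6, 7],
    [(9, [2]), (6, [2]), (8, [4]), (4, [4]), (9, [2, 2]), (9, [1, 0, 0]), (11, [5, 2]), (5, [6, 2])]),
   (8, [1, 0, 0, 5, 6, 7],
    [(5, []), (10, [3, 4]), (10, [3]), (5, [3]), (4, [2]), (8, [0, 0, 3, 4]), (10, [5, 4, 2]), (8, [6, 2])])]

/-- Transversal and certificates at the point 1. -/
def lvl1 : List (Pt × List (Fin 8) × List (ℕ × List (Fin 8))) :=
  [(1, [],
    [(0, [0]), (0, [1]), (0, [2]), (0, [3]), (0, [4]), (0, [5]), (1, [])]),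
   (0, [6],
    [(1, [0]), (1, [1, 1]), (1, [3, 4]), (1, [4]), (1, [3]), (2, []), (0, [])]),
   (3, [5, 6],
    [(3, []), (4, []), (2, [4]), (2, [3, 4]), (2, [4, 2]), (1, []), (2, [5])]),
   (4, [0, 5, 6],
    [(5, []), (6, []), (4, [4]), (6, [3, 4]), (7, []), (3, [0, 0, 2, 2]), (3, [5])]),
   (6, [1, 5, 6],
    [(6, []), (8, []), (5, [4]), (7, [2, 3]), (9, []), (6, [1, 4, 2]), (8, [5])]),
   (5, [0, 0, 5, 6],
    [(2, []), (10, []), (8, [4]), (9, [2, 3]), (10, [4, 2]), (5, [0, 2, 2]), (5, [5])]),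
   (7, [1, 0, 5, 6],
    [(10, []), (7, [3]), (10, [4]), (5, [3, 4]), (4, [4, 2]), (4, [1, 0, 0, 3]), (7, [5, 2])]),
   (10, [4, 0, 5, 6],
    [(9, []), (3, [4, 2]), (6, [3, 4]), (8, [2, 3]), (5, [2, 2]), (10, [4, 1, 2]), (6, [5, 4, 2])]),
   (9, [1, 1, 5, 6],
    [(7, [3]), (2, []), (3, [4]), (10, [3, 4]), (6, [4, 2]), (9, [1, 0, 0]), (4, [5])]),
   (11, [4, 1, 5, 6],
    [(8, [4, 2]), (5, [4, 2]), (7, [2, 3]), (3, [2, 3]), (8, [2, 2]), (8, [4, 0, 2, 3]), (10, [5, 4, 2])]),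
   (8, [1, 0, 0, 5, 6],
    [(4, []), (9, [3]), (9, [3, 4]), (4, [3, 4]), (3, [4, 2]), (7, [0, 0, 3]), (9, [5, 2])])]

/-- Transversal and certificates at the point 0. -/
def lvl2 : List (Pt × List (Fin 8) × List (ℕ × List (Fin 8))) :=
  [(0, [],
    [(0, [0]), (0, [1]), (0, [2]), (0, [3]), (0, [4]), (1, [])]),
   (3, [5],
    [(2, []), (3, []), (1, [3]), (1, [2]), (1, [2, 3]), (0, [])]),
   (4, [0, 5],
    [(4, []), (5, []), (3, [3]), (5, [2]), (6, []), (2, [0, 0, 2, 2])]),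
   (6, [1, 5],
    [(5, []), (7, []), (4, [3]), (6, [4, 2]), (8, []), (5, [1, 1, 2, 3])]),
   (5, [0, 0, 5],
    [(1, []), (9, []), (7, [3]), (8, [4, 2]), (9, [2, 3]), (4, [0, 2, 2])]),
   (7, [1, 0, 5],
    [(9, []), (6, [4]), (9, [3]), (4, [2]), (3, [2, 3]), (3, [4, 1])]),
   (10, [4, 0, 5],
    [(8, []), (2, [2, 3]), (5, [2]), (7, [4, 2]), (4, [2, 2]), (9, [1, 0, 0, 2, 3])]),
   (9, [1, 1, 5],
    [(6, [4]), (1, []), (2, [3]), (9, [2]), (5, [2, 3]), (8, [4, 1, 2, 3])]),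
   (11, [4, 1, 5],
    [(7, [2, 3]), (4, [2, 3]), (6, [4, 2]), (2, [4, 2]), (7, [2, 2]), (7, [1, 0])]),
   (8, [1, 0, 0, 5],
    [(3, []), (8, [4]), (8, [2]), (3, [2]), (2, [2, 3]), (6, [0, 0, 4])])]

/-- Transversal and certificates at the point 3. -/
def lvl3 : List (Pt × List (Fin 8) × List (ℕ × List (Fin 8))) :=
  [(3, [],
    [(1, []), (2, []), (0, [2]), (0, [3]), (0, [4])]),
   (4, [0],
    [(3, []), (4, []), (2, [2]), (4, [3]), (5, [])]),
   (6, [1],
    [(4, []), (6, []), (3, [2]), (5, [3, 4]), (7, [])]),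
   (5, [0, 0],
    [(0, []), (8, []), (6, [2]), (7, [3, 4]), (8, [4])]),
   (7, [1, 0],
    [(8, []), (5, [2, 3]), (8, [2]), (3, [3]), (2, [4])]),
   (10, [4, 0],
    [(7, []), (1, [4]), (4, [3]), (6, [3, 4]), (3, [2, 2])]),
   (9, [1, 1],
    [(5, [2, 3]), (0, []), (1, [2]), (8, [3]), (4, [4])]),
   (11, [4, 1],
    [(6, [4]), (3, [4]), (5, [3, 4]), (1, [3, 4]), (6, [2, 2])]),
   (8, [1, 0, 0],
    [(2, []), (7, [2, 3]), (7, [3]), (2, [3]), (1, [4])])]

/-- Transversal and certificates at the point 4. -/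
def lvl4 : List (Pt × List (Fin 8) × List (ℕ × List (Fin 8))) :=
  [(4, [],
    [(1, []), (2, []), (3, [])]),
   (6, [2],
    [(4, []), (3, []), (5, [])]),
   (7, [3],
    [(6, []), (4, []), (1, [])]),
   (10, [4],
    [(2, []), (7, []), (4, [])]),
   (5, [2, 2],
    [(7, []), (5, []), (6, [])]),
   (11, [4, 2],
    [(3, []), (0, []), (7, [])]),
   (8, [2, 3],
    [(5, []), (1, []), (0, [])]),
   (9, [3, 4],
    [(0, []), (6, []), (2, [])])]

/-! ### Checking -/

/-- Value of a generator on a point, read from its table. -/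
def look (s : Fin 8) (x : Pt) : Pt := ((tabs.getD s.val []).getD x.val 0)

/-- The table of a word in the generators. -/
def ev : List (Fin 8) → List Pt
  | [] => List.finRange 12
  | s :: w => (ev w).map (look s)

/-- The checks at one level. -/
def levelOK (b : Pt) (S S' : List (Fin 8))
    (L : List (Pt × List (Fin 8) × List (ℕ × List (Fin 8)))) : Bool :=
  L.all (fun e => (ev e.2.1).getD b.val 0 == e.1 && e.2.1.all (S.contains ·) &&
    (S.zip e.2.2).all (fun p =>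
      match L[p.2.1]? with
      | some e' => ev (p.1 :: e.2.1) == ev (e'.2.1 ++ p.2.2) && p.2.2.all (S'.contains ·)
      | none => false) &&
    e.2.2.length == S.length) &&
  S'.all (fun s => S.contains s && look s b == b) &&
  decide (L.map Prod.fst).Nodup && (L.map fun e => e.2.1).contains []

/-- The product of the permutations of a word. -/
def prodW (g : Fin 8 → Equiv.Perm Pt) (w : List (Fin 8)) : Equiv.Perm Pt := (w.map g).prod

/-- The group generated by a list of the generators. -/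
def grp (g : Fin 8 → Equiv.Perm Pt) (S : List (Fin 8)) : Subgroup (Equiv.Perm Pt) :=
  Subgroup.closure (g '' {s | s ∈ S})

variable {g : Fin 8 → Equiv.Perm Pt}

theorem mem_grp {S : List (Fin 8)} {s : Fin 8} (h : s ∈ S) : g s ∈ grp g S :=
  Subgroup.subset_closure ⟨s, h, rfl⟩

theorem prodW_mem {S w : List (Fin 8)} (h : ∀ s ∈ w, s ∈ S) : prodW g w ∈ grp g S := by
  refine list_prod_mem fun σ hσ => ?_
  obtain ⟨s, hs, rfl⟩ := List.mem_map.1 hσ
  exact mem_grp (h s hs)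

theorem tbl_prodW (hg : ∀ s x, g s x = look s x) :
    ∀ w, ev w = List.ofFn ⇑(prodW g w)
  | [] => by rw [ev, prodW, List.map_nil, List.prod_nil, Equiv.Perm.coe_one, List.ofFn_id]
  | s :: w => by
    rw [ev, tbl_prodW hg w, List.map_ofFn]
    congr 1
    funext i
    simp [prodW, hg]

theorem prodW_eq_of_ev (hg : ∀ s x, g s x = look s x) {w w' : List (Fin 8)} (h : ev w = ev w') :
    prodW g w = prodW g w' :=
  Equiv.ext (congrFun (List.ofFn_injective (by rw [← tbl_prodW hg, ← tbl_prodW hg, h])))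

theorem prodW_apply_of_ev (hg : ∀ s x, g s x = look s x) {w : List (Fin 8)} {b q : Pt}
    (h : (ev w).getD b.val 0 = q) : prodW g w b = q := by
  rw [← h, tbl_prodW hg, List.getD_eq_getElem?_getD, List.getElem?_ofFn]
  simp

/-- A checked level: the next group is the stabiliser, and the index is the orbit length. -/
theorem level_spec (hg : ∀ s x, g s x = look s x) {b : Pt} {S S' : List (Fin 8)}
    {L : List (Pt × List (Fin 8) × List (ℕ × List (Fin 8)))} (h : levelOK b S S' L = true) :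
    grp g S' = grp g S ⊓ MulAction.stabilizer (Equiv.Perm Pt) b ∧
      Nat.card (grp g S) = L.length * Nat.card (grp g S') := by
  simp only [levelOK, Bool.and_eq_true, List.all_eq_true, decide_eq_true_eq,
    List.contains_iff_mem, beq_iff_eq] at h
  obtain ⟨⟨⟨hL, hS'⟩, hnd⟩, hnil⟩ := h
  have hK : grp g S' ≤ grp g S := by
    refine Subgroup.closure_mono (Set.image_mono ?_)
    exact fun s hs => (hS' s hs).1
  have hfix : ∀ k ∈ grp g S', k b = b := by
    intro k hk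
    have hle : grp g S' ≤ MulAction.stabilizer (Equiv.Perm Pt) b := by
      refine (Subgroup.closure_le _).2 ?_
      rintro σ ⟨s, hs, rfl⟩
      show g s b = b
      rw [hg]; exact (hS' s hs).2
    exact hle hk
  have hT : ∀ e ∈ L, prodW g e.2.1 ∈ grp g S ∧ prodW g e.2.1 b = e.1 := fun e he =>
    ⟨prodW_mem fun s hs => (hL e he).1.1.2 s hs, prodW_apply_of_ev hg (hL e he).1.1.1⟩
  let P : Set (Equiv.Perm Pt) := {σ | ∃ e ∈ L, ∃ k ∈ grp g S', σ = prodW g e.2.1 * k}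
  have h1 : (1 : Equiv.Perm Pt) ∈ P := by
    obtain ⟨e, he, hw⟩ := List.mem_map.1 hnil
    exact ⟨e, he, 1, one_mem _, by simp [hw, prodW]⟩
  have hstep : ∀ s ∈ S, ∀ σ ∈ P, g s * σ ∈ P := by
    rintro s hs σ ⟨e, he, k, hk, rfl⟩
    obtain ⟨i, hi, rfl⟩ := List.getElem_of_mem hs
    have hlen := (hL e he).2
    have hp := (hL e he).1.2 (S[i], e.2.2[i]'(hlen ▸ hi)) (by
      refine List.mem_iff_getElem.2 ⟨i, by simp [hlen, hi], by simp⟩)
    simp only at hp
    split at hp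
    · rename_i e' he'
      simp only [Bool.and_eq_true, beq_iff_eq, List.all_eq_true, List.contains_iff_mem] at hp
      refine ⟨e', List.mem_of_getElem? he', _, mul_mem (prodW_mem hp.2) hk, ?_⟩
      have hm := prodW_eq_of_ev hg hp.1
      simp only [prodW, List.map_cons, List.prod_cons, List.map_append, List.prod_append] at hm ⊢
      rw [← mul_assoc, hm, mul_assoc]
    · exact absurd hp (by simp)
  have hKP : ∀ σ ∈ grp g S, σ ∈ P := by
    intro σ hσ
    have hm : σ ∈ Submonoid.closure (g '' {s | s ∈ S}) := by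
      rw [← Subgroup.closure_toSubmonoid_of_finite]; exact hσ
    refine Submonoid.closure_induction_left (motive := fun x _ => x ∈ P) h1 ?_ hm
    rintro x ⟨s, hs, rfl⟩ y _ hy
    exact hstep s hs y hy
  have heq : grp g S' = grp g S ⊓ MulAction.stabilizer (Equiv.Perm Pt) b := by
    refine le_antisymm (fun k hk => ⟨hK hk, hfix k hk⟩) ?_
    rintro σ ⟨hσ, hσb⟩
    obtain ⟨e, he, k, hk, rfl⟩ := hKP σ hσ
    have heb : e.1 = b := by
      have : prodW g e.2.1 (k b) = b := hσb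
      rwa [hfix k hk, (hT e he).2] at this
    obtain ⟨e0, he0, hw0⟩ := List.mem_map.1 hnil
    have he0b : e0.1 = b := by
      rw [← (hT e0 he0).2, hw0]; rfl
    have : e = e0 := List.inj_on_of_nodup_map hnd he he0 (heb.trans he0b.symm)
    subst this
    rw [hw0]
    simpa [prodW] using hk
  refine ⟨heq, ?_⟩
  let f : {e // e ∈ L} × grp g S' → grp g S :=
    fun p => ⟨prodW g p.1.1.2.1 * p.2.1, mul_mem (hT _ p.1.2).1 (hK p.2.2)⟩
  have hf : Function.Bijective f := by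
    refine ⟨fun p p' hpp => ?_, fun σ => ?_⟩
    · have hv : prodW g p.1.1.2.1 * p.2.1 = prodW g p'.1.1.2.1 * p'.2.1 := congrArg Subtype.val hpp
      have hq : p.1.1.1 = p'.1.1.1 := by
        have := congrArg (fun σ : Equiv.Perm Pt => σ b) hv
        simpa [hfix _ p.2.2, hfix _ p'.2.2, (hT _ p.1.2).2, (hT _ p'.1.2).2] using this
      have he : p.1 = p'.1 := Subtype.ext (List.inj_on_of_nodup_map hnd p.1.2 p'.1.2 hq)
      rw [he] at hv
      exact Prod.ext he (Subtype.ext (mul_left_cancel hv))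
    · obtain ⟨e, he, k, hk, hσ⟩ := hKP σ.1 σ.2
      exact ⟨⟨⟨e, he⟩, ⟨k, hk⟩⟩, Subtype.ext hσ.symm⟩
  rw [← Nat.card_congr (Equiv.ofBijective f hf), Nat.card_prod]
  congr 1
  rw [Nat.card_eq_fintype_card, Fintype.card_congr (List.Nodup.getEquiv L (List.Nodup.of_map _ hnd)).symm,
    Fintype.card_fin]

end CfsgLib.M12Explicit
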